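import Cfsg.Agent.H192.Af.Defs
import Cfsg.Agent.SmallSimple.SelfCentPrime

/-!
# S5731, the affine core: criteria for `Tgt` (helper902, AF1)
-/

set_option autoImplicit false

namespace Cfsg.Agent.H902.Af

open Cfsg.Agent.H192.Af MulAction

universe u v

section

variable {V : Type u} [AddCommGroup V] [Finite V] {H : Type v} [Group H] [Finite H] [DistribMulAction H V]

/-- the number of fixed points of `h` on the orbit of `w` -/
noncomputable def fx (w : V) (h : H) : ℕ := Nat.card {x : orbit H w // h • x = x}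

omit [Finite V] [Finite H] in
theorem fx_conj (w : V) (k h : H) : fx w (k * h * k⁻¹) = fx w h := by
  unfold fx
  refine Nat.card_congr ⟨fun x => ⟨k⁻¹ • x.1, ?_⟩, fun x => ⟨k • x.1, ?_⟩, fun x => ?_, fun x => ?_⟩
  · have := congrArg (fun y => k⁻¹ • y) x.2
    simp only [mul_smul, inv_smul_smul] at this
    exact this
  · rw [mul_smul, mul_smul, inv_smul_smul, x.2]
  · exact Subtype.ext (smul_inv_smul _ _)
  · exact Subtype.ext (inv_smul_smul _ _)

omit [Finite V] [Finite H] in
theorem fixc_conj (k h : H) : fixc V (k * h * k⁻¹) = fixc V h := by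
  unfold fixc
  refine Nat.card_congr ⟨fun x => ⟨k⁻¹ • x.1, ?_⟩, fun x => ⟨k • x.1, ?_⟩, fun x => ?_, fun x => ?_⟩
  · have := congrArg (fun y => k⁻¹ • y) x.2
    simp only [mul_smul, inv_smul_smul] at this
    exact this
  · rw [mul_smul, mul_smul, inv_smul_smul, x.2]
  · exact Subtype.ext (smul_inv_smul _ _)
  · exact Subtype.ext (inv_smul_smul _ _)

omit [Finite H] in
theorem fixc_pos (h : H) : 0 < fixc V h := by
  have : Nonempty {w : V // h • w = w} := ⟨⟨0, smul_zero h⟩⟩
  exact Nat.card_pos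

omit [Finite H] in
theorem fixc_le (h : H) : fixc V h ≤ Nat.card V :=
  Nat.card_le_card_of_injective _ Subtype.val_injective

omit [Finite H] in
/-- an orbit of non-zero vectors -/
theorem fx_lt {w : V} (hw : w ≠ 0) (h : H) : fx w h + 1 ≤ fixc V h := by
  unfold fx fixc
  rw [← Nat.card_unique (α := Unit), ← Nat.card_sum]
  refine Nat.card_le_card_of_injective
    (Sum.elim (fun x => ⟨x.1.1, congrArg Subtype.val x.2⟩) (fun _ => ⟨0, smul_zero h⟩)) ?_
  have hne : ∀ x : orbit H w, (x : V) ≠ 0 := by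
    rintro ⟨x, k, rfl⟩ h0
    exact hw ((smul_eq_zero_iff_eq k).1 h0)
  rintro (x | x) (y | y) hxy
  · have h1 : (x.1.1 : V) = y.1.1 := congrArg (fun s : {w : V // h • w = w} => s.1) hxy
    exact congrArg _ (Subtype.ext (Subtype.ext h1))
  · have h1 : (x.1.1 : V) = 0 := congrArg (fun s : {w : V // h • w = w} => s.1) hxy
    exact absurd h1 (hne _)
  · have h1 : (0 : V) = y.1.1 := congrArg (fun s : {w : V // h • w = w} => s.1) hxy
    exact absurd h1.symm (hne _)
  · rfl

omit [Finite H] in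
/-- Double counting over an orbit. -/
theorem sum_orbit [Fintype H] (w : V) [Fintype (stabilizer H w)] (g : H → ℝ) (hg : ∀ k h, g (k * h * k⁻¹) = g h) :
    ∑ h : H, (fx w h : ℝ) * g h = (Nat.card (orbit H w) : ℝ) * ∑ h : stabilizer H w, g h := by
  classical
  have : Fintype (orbit H w) := Fintype.ofFinite _
  have h1 : ∀ h : H, (fx w h : ℝ) * g h = ∑ x : orbit H w, if h • x = x then g h else 0 := by
    intro h
    rw [← Finset.sum_filter, Finset.sum_const, nsmul_eq_mul]
    congr 2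
    unfold fx
    rw [Nat.card_eq_fintype_card, Fintype.card_subtype]
  have h2 : ∀ x : orbit H w, (∑ h : H, if h • x = x then g h else 0) = ∑ h : stabilizer H w, g h := by
    rintro ⟨x, k, rfl⟩
    have h3 : (∑ h : stabilizer H w, g h) = ∑ h : H, if h • w = w then g h else 0 := by
      rw [← Finset.sum_filter]
      symm
      refine Finset.sum_bij' (fun h hh => ⟨h, (Finset.mem_filter.1 hh).2⟩) (fun h _ => h.1) ?_ ?_ ?_ ?_ ?_
      · intro h _; exact Finset.mem_univ _
      · intro h _; exact Finset.mem_filter.2 ⟨Finset.mem_univ _, h.2⟩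
      · intro h _; rfl
      · intro h _; rfl
      · intro h _; rfl
    rw [h3]
    refine Fintype.sum_equiv (MulAut.conj k⁻¹).toEquiv _ _ ?_
    intro h
    have e1 : (MulAut.conj k⁻¹).toEquiv h = k⁻¹ * h * k := by
      show k⁻¹ * h * k⁻¹⁻¹ = _
      rw [inv_inv]
    rw [e1]
    have e2 : g (k⁻¹ * h * k) = g h := by
      have := hg k⁻¹ h
      rwa [inv_inv] at this
    rw [e2]
    have e3 : (h • (⟨k • w, ⟨k, rfl⟩⟩ : orbit H w) = ⟨k • w, ⟨k, rfl⟩⟩) ↔ (k⁻¹ * h * k) • w = w := by
      rw [Subtype.ext_iff]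
      show h • (k • w) = k • w ↔ _
      rw [mul_smul, mul_smul, inv_smul_eq_iff]
    by_cases h4 : (k⁻¹ * h * k) • w = w
    · rw [if_pos h4]
      exact if_pos (e3.2 h4)
    · rw [if_neg h4]
      exact if_neg (fun h5 => h4 (e3.1 h5))
  rw [Finset.sum_congr rfl (fun h _ => h1 h), Finset.sum_comm, Finset.sum_congr rfl (fun x _ => h2 x),
    Finset.sum_const, nsmul_eq_mul, Finset.card_univ, Nat.card_eq_fintype_card]

theorem card_orbit_mul (w : V) : Nat.card (orbit H w) * Nat.card (stabilizer H w) = Nat.card H := by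
  classical
  have : Fintype (orbit H w) := Fintype.ofFinite _
  have : Fintype H := Fintype.ofFinite _
  have : Fintype (stabilizer H w) := Fintype.ofFinite _
  rw [Nat.card_eq_fintype_card, Nat.card_eq_fintype_card, Nat.card_eq_fintype_card]
  exact card_orbit_mul_card_stabilizer_eq_card_group H w

/-- Burnside on the orbit. -/
theorem sum_fx [Fintype H] (w : V) : ∑ h : H, (fx w h : ℝ) = Nat.card H := by
  classical
  have : Fintype (stabilizer H w) := Fintype.ofFinite _
  have h := sum_orbit w (fun _ : H => (1 : ℝ)) (fun _ _ => rfl)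
  simp only [mul_one] at h
  rw [h, Finset.sum_const, nsmul_eq_mul, mul_one, Finset.card_univ, ← Nat.card_eq_fintype_card]
  exact_mod_cast card_orbit_mul w

/-- Burnside on the pairs of the orbit. -/
theorem sum_fx_sq [Fintype H] (w : V) : ∑ h : H, (fx w h : ℝ) * fx w h = rnk V H w * Nat.card H := by
  classical
  have : Fintype (stabilizer H w) := Fintype.ofFinite _
  have : Fintype (orbit H w) := Fintype.ofFinite _
  rw [sum_orbit w (fun h : H => (fx w h : ℝ)) (fun k h => by rw [fx_conj])]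
  have : ∀ a : stabilizer H w, Fintype (fixedBy (orbit H w) a) := fun a => Fintype.ofFinite _
  have : Fintype (orbitRel.Quotient (stabilizer H w) (orbit H w)) := Fintype.ofFinite _
  have h1 := sum_card_fixedBy_eq_card_orbits_mul_card_group (stabilizer H w) (orbit H w)
  have h2 : ∑ h : stabilizer H w, (fx w (h : H) : ℝ) = (rnk V H w : ℝ) * Nat.card (stabilizer H w) := by
    rw [Nat.card_eq_fintype_card]
    unfold rnk
    rw [Nat.card_eq_fintype_card]
    have h3 : ∀ h : stabilizer H w, fx w (h : H) = Fintype.card (fixedBy (orbit H w) h) := by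
      intro h
      rw [← Nat.card_eq_fintype_card]
      rfl
    rw [Finset.sum_congr rfl (fun h _ => by rw [h3])]
    exact_mod_cast h1
  rw [h2, ← card_orbit_mul (H := H) w]
  push_cast
  ring

omit [Finite V] [Finite H] in
theorem tgt_iff [Fintype H] : Tgt V H ↔
    (Real.sqrt (Nat.card V) + 1) / (2 * Nat.card V) * (Nat.card H : ℝ) ≤ ∑ h : H, (1 - 1 / (fixc V h : ℝ)) := by
  unfold Tgt
  rw [finsum_eq_sum_of_fintype]

omit [Finite H] in
/-- The sum over `h` in terms of the stabiliser of one vector. -/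
theorem sum_ge_stab [Fintype H] {w : V} (hw : w ≠ 0) [Fintype (stabilizer H w)] :
    (Nat.card (orbit H w) : ℝ) * ∑ h : stabilizer H w, (1 : ℝ) / fixc V (h : H) ≤
      ∑ h : H, (1 - 1 / (fixc V h : ℝ)) := by
  rw [← sum_orbit w (fun h : H => (1 : ℝ) / fixc V h) (fun k h => by rw [fixc_conj])]
  refine Finset.sum_le_sum (fun h _ => ?_)
  have h1 : ((fx w h : ℝ) + 1) ≤ fixc V h := by exact_mod_cast fx_lt hw h
  have h2 : (0 : ℝ) < fixc V h := by exact_mod_cast fixc_pos h
  rw [mul_one_div, div_le_iff₀ h2]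
  field_simp
  linarith

/-- **Criterion**: at least half of the stabiliser of `w` has at most `√n` fixed vectors. -/
theorem tgt_of_half {w : V} (hw : w ≠ 0)
    (h : Nat.card (stabilizer H w) ≤ 2 * Nat.card {h : stabilizer H w // fixc V (h : H) ^ 2 ≤ Nat.card V}) :
    Tgt V H := by
  classical
  have : Fintype H := Fintype.ofFinite _
  have : Fintype (stabilizer H w) := Fintype.ofFinite _
  rw [tgt_iff]
  refine le_trans ?_ (sum_ge_stab hw)
  set n : ℝ := (Nat.card V : ℝ) with hn
  have hV : 0 < Nat.card V := Nat.card_pos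
  have hn0 : 0 < n := by rw [hn]; exact_mod_cast hV
  have hn1 : 1 ≤ n := by rw [hn]; exact_mod_cast hV
  have hs0 : 0 < Real.sqrt n := Real.sqrt_pos.2 hn0
  have hss : Real.sqrt n * Real.sqrt n = n := Real.mul_self_sqrt hn0.le
  have hs1 : 1 ≤ Real.sqrt n := Real.one_le_sqrt.2 hn1
  set A := Finset.univ.filter (fun h : stabilizer H w => fixc V (h : H) ^ 2 ≤ Nat.card V) with hA
  set B := Finset.univ.filter (fun h : stabilizer H w => ¬ fixc V (h : H) ^ 2 ≤ Nat.card V) with hB
  have hcA : Nat.card {h : stabilizer H w // fixc V (h : H) ^ 2 ≤ Nat.card V} = A.card := by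
    rw [Nat.card_eq_fintype_card, Fintype.card_subtype]
  have hAB : A.card + B.card = Nat.card (stabilizer H w) := by
    rw [hA, hB, Finset.card_filter_add_card_filter_not, Finset.card_univ, Nat.card_eq_fintype_card]
  have h1 : ∀ h ∈ A, 1 / Real.sqrt n ≤ (1 : ℝ) / fixc V (h : H) := by
    intro h hh
    have h2 := (Finset.mem_filter.1 hh).2
    have h3 : (0 : ℝ) < fixc V (h : H) := by exact_mod_cast fixc_pos (V := V) (h : H)
    refine one_div_le_one_div_of_le h3 ?_
    rw [← Real.sqrt_sq h3.le]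
    exact Real.sqrt_le_sqrt (by rw [hn]; exact_mod_cast h2)
  have h2 : ∀ h ∈ B, 1 / n ≤ (1 : ℝ) / fixc V (h : H) := by
    intro h _
    have h3 : (0 : ℝ) < fixc V (h : H) := by exact_mod_cast fixc_pos (V := V) (h : H)
    refine one_div_le_one_div_of_le h3 ?_
    rw [hn]
    exact_mod_cast fixc_le (V := V) (h : H)
  have h3 : (A.card : ℝ) * (1 / Real.sqrt n) + (B.card : ℝ) * (1 / n) ≤
      ∑ h : stabilizer H w, (1 : ℝ) / fixc V (h : H) := by
    rw [← Finset.sum_filter_add_sum_filter_not Finset.univ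
      (fun h : stabilizer H w => fixc V (h : H) ^ 2 ≤ Nat.card V), ← nsmul_eq_mul, ← nsmul_eq_mul]
    exact add_le_add (Finset.card_nsmul_le_sum _ _ _ h1) (Finset.card_nsmul_le_sum _ _ _ h2)
  have h4 : (Nat.card (stabilizer H w) : ℝ) * ((Real.sqrt n + 1) / (2 * n)) ≤
      (A.card : ℝ) * (1 / Real.sqrt n) + (B.card : ℝ) * (1 / n) := by
    have h5 : (B.card : ℝ) ≤ A.card := by
      have : B.card ≤ A.card := by omega
      exact_mod_cast this
    have h6 : (Nat.card (stabilizer H w) : ℝ) = A.card + B.card := by rw [← hAB]; push_cast; rfl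
    have e1 : 1 / Real.sqrt n = Real.sqrt n / n := by
      rw [div_eq_div_iff hs0.ne' hn0.ne', one_mul, hss]
    rw [h6, e1]
    have e2 : (A.card : ℝ) * (Real.sqrt n / n) + (B.card : ℝ) * (1 / n) -
        ((A.card : ℝ) + B.card) * ((Real.sqrt n + 1) / (2 * n)) =
        ((A.card : ℝ) - B.card) * (Real.sqrt n - 1) / (2 * n) := by
      field_simp
      ring
    have e3 : 0 ≤ ((A.card : ℝ) - B.card) * (Real.sqrt n - 1) / (2 * n) :=
      div_nonneg (mul_nonneg (by linarith) (by linarith)) (by linarith)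
    linarith
  have h7 : (Nat.card H : ℝ) = Nat.card (orbit H w) * Nat.card (stabilizer H w) := by
    exact_mod_cast (card_orbit_mul (H := H) w).symm
  rw [h7]
  calc (Real.sqrt n + 1) / (2 * n) * (Nat.card (orbit H w) * Nat.card (stabilizer H w) : ℝ)
      = (Nat.card (orbit H w) : ℝ) * (Nat.card (stabilizer H w) * ((Real.sqrt n + 1) / (2 * n))) := by ring
    _ ≤ _ := mul_le_mul_of_nonneg_left (h4.trans h3) (Nat.cast_nonneg _)

/-- **Criterion**: all non-trivial elements have at most `√n` fixed vectors. -/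
theorem tgt_of_fix (hfix : ∀ h : H, h ≠ 1 → fixc V h ^ 2 ≤ Nat.card V) (hne : ∃ h : H, h ≠ 1 ∧ fixc V h ≠ 1) :
    Tgt V H := by
  classical
  obtain ⟨h0, h01, h02⟩ := hne
  obtain ⟨w, hw, hw1⟩ : ∃ w : V, w ≠ 0 ∧ h0 • w = w := by
    by_contra hall
    push Not at hall
    apply h02
    unfold fixc
    have : Unique {w : V // h0 • w = w} := ⟨⟨⟨0, smul_zero _⟩⟩, fun x => Subtype.ext (by
      by_contra h
      exact hall _ h x.2)⟩
    exact Nat.card_unique
  refine tgt_of_half hw ?_
  have h1 : Nat.card {h : stabilizer H w // h ≠ 1} + 1 = Nat.card (stabilizer H w) := by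
    have : Fintype (stabilizer H w) := Fintype.ofFinite _
    rw [Nat.card_eq_fintype_card, Nat.card_eq_fintype_card, Fintype.card_subtype_compl,
      Fintype.card_subtype_eq]
    exact Nat.sub_add_cancel Fintype.card_pos
  have h2 : Nat.card {h : stabilizer H w // h ≠ 1} ≤
      Nat.card {h : stabilizer H w // fixc V (h : H) ^ 2 ≤ Nat.card V} := by
    refine Nat.card_le_card_of_injective (fun h => ⟨h.1, hfix _ fun h3 => h.2 (Subtype.ext h3)⟩) ?_
    intro a b hab
    have : a.1 = b.1 := congrArg (fun s : {h : stabilizer H w // fixc V (h : H) ^ 2 ≤ Nat.card V} => s.1) hab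
    exact Subtype.ext this
  have h3 : 1 ≤ Nat.card {h : stabilizer H w // h ≠ 1} := by
    have : Nonempty {h : stabilizer H w // h ≠ 1} := ⟨⟨⟨h0, hw1⟩, fun h => h01 (congrArg Subtype.val h)⟩⟩
    exact Nat.card_pos
  omega

/-- **Criterion** (helper264): the stabilisers are generated by elements with more than `√n` fixed vectors. -/
theorem tgt_or_stab : Tgt V H ∨ ∀ w : V, w ≠ 0 →
    MulAction.stabilizer H w ≤ Subgroup.closure {h : H | Nat.card V < fixc V h ^ 2} := by
  classical
  by_cases hT : Tgt V H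
  · exact Or.inl hT
  right
  intro w hw
  by_contra hnot
  apply hT
  refine tgt_of_half hw ?_
  set K : Subgroup (stabilizer H w) :=
    (Subgroup.closure {h : H | Nat.card V < fixc V h ^ 2}).subgroupOf (stabilizer H w) with hK
  have hKtop : K ≠ ⊤ := fun h => hnot (Subgroup.subgroupOf_eq_top.1 h)
  have h1 : 2 * Nat.card K ≤ Nat.card (stabilizer H w) := by
    have h2 := K.index_mul_card
    have h3 : 2 ≤ K.index := by
      have h4 : K.index ≠ 1 := fun h => hKtop (Subgroup.index_eq_one.1 h)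
      have h5 : K.index ≠ 0 := Subgroup.index_ne_zero_of_finite
      omega
    calc 2 * Nat.card K ≤ K.index * Nat.card K := Nat.mul_le_mul_right _ h3
      _ = _ := h2
  have h2 : Nat.card {h : stabilizer H w // ¬ fixc V (h : H) ^ 2 ≤ Nat.card V} ≤ Nat.card K := by
    refine Nat.card_le_card_of_injective (fun h => ⟨h.1, ?_⟩) ?_
    · rw [hK, Subgroup.mem_subgroupOf]
      exact Subgroup.subset_closure (not_le.1 h.2)
    · intro a b hab
      have : a.1 = b.1 := congrArg (fun s : K => s.1) hab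
      exact Subtype.ext this
  have h3 : Nat.card {h : stabilizer H w // fixc V (h : H) ^ 2 ≤ Nat.card V} +
      Nat.card {h : stabilizer H w // ¬ fixc V (h : H) ^ 2 ≤ Nat.card V} = Nat.card (stabilizer H w) := by
    rw [← Nat.card_sum]
    exact Nat.card_congr (Equiv.sumCompl _)
  omega

/-- **Criterion** (helper900, helper570): small rank. -/
theorem tgt_of_rnk' {w : V} (hw : w ≠ 0) (h : (rnk V H w + 3) ^ 2 ≤ 4 * Nat.card V) : Tgt V H := by
  classical
  have : Fintype H := Fintype.ofFinite _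
  rw [tgt_iff]
  set n : ℝ := (Nat.card V : ℝ) with hn
  have hV : 0 < Nat.card V := Nat.card_pos
  have hn0 : 0 < n := by rw [hn]; exact_mod_cast hV
  have hs0 : 0 < Real.sqrt n := Real.sqrt_pos.2 hn0
  have hss : Real.sqrt n * Real.sqrt n = n := Real.mul_self_sqrt hn0.le
  set r : ℝ := (rnk V H w : ℝ) with hr
  have hr0 : 0 ≤ r := Nat.cast_nonneg _
  have hG : (0 : ℝ) < Nat.card H := by exact_mod_cast Nat.card_pos (α := H)
  -- pointwise
  have h1 : ∑ h : H, (fx w h : ℝ) / (1 + fx w h) ≤ ∑ h : H, (1 - 1 / (fixc V h : ℝ)) := by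
    refine Finset.sum_le_sum (fun h _ => ?_)
    have h1 : ((fx w h : ℝ) + 1) ≤ fixc V h := by exact_mod_cast fx_lt hw h
    have h0 : (0 : ℝ) ≤ fx w h := Nat.cast_nonneg _
    have h2 : (fx w h : ℝ) / (1 + fx w h) = 1 - 1 / (fx w h + 1) := by
      field_simp
      ring
    rw [h2]
    have := one_div_le_one_div_of_le (by linarith : (0 : ℝ) < fx w h + 1) h1
    linarith
  -- Cauchy--Schwarz
  have h2 : (Nat.card H : ℝ) ^ 2 ≤ (∑ h : H, (fx w h : ℝ) / (1 + fx w h)) * ((1 + r) * Nat.card H) := by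
    have h3 : (1 + r) * Nat.card H = ∑ h : H, (fx w h : ℝ) * (1 + fx w h) := by
      have : ∀ h : H, (fx w h : ℝ) * (1 + fx w h) = fx w h + fx w h * fx w h := fun h => by ring
      rw [Finset.sum_congr rfl (fun h _ => this h), Finset.sum_add_distrib, sum_fx, sum_fx_sq]
      ring
    rw [h3, ← sum_fx (H := H) w]
    refine Finset.sum_sq_le_sum_mul_sum_of_sq_le_mul _ (fun h _ => ?_) (fun h _ => ?_) (fun h _ => le_of_eq ?_)
    · positivity
    · positivity
    · have : (1 + (fx w h : ℝ)) ≠ 0 := by positivity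
      field_simp
  have h3 : (Nat.card H : ℝ) / (1 + r) ≤ ∑ h : H, (fx w h : ℝ) / (1 + fx w h) := by
    rw [div_le_iff₀ (by linarith)]
    have h4 : (Nat.card H : ℝ) * Nat.card H ≤
        ((∑ h : H, (fx w h : ℝ) / (1 + fx w h)) * (1 + r)) * Nat.card H := by
      nlinarith
    exact le_of_mul_le_mul_right h4 hG
  have h5 : r + 3 ≤ 2 * Real.sqrt n := by
    have h6 : (r + 3) ^ 2 ≤ (2 * Real.sqrt n) ^ 2 := by
      have h7 : (r + 3) ^ 2 ≤ 4 * n := by rw [hr, hn]; exact_mod_cast h
      calc (r + 3) ^ 2 ≤ 4 * n := h7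
        _ = (2 * Real.sqrt n) ^ 2 := by rw [mul_pow, pow_two (Real.sqrt n), hss]; ring
    exact le_of_sq_le_sq h6 (by positivity)
  have h6 : (Real.sqrt n + 1) / (2 * n) ≤ 1 / (1 + r) := by
    rw [div_le_div_iff₀ (by linarith) (by linarith)]
    have : (Real.sqrt n + 1) * (1 + r) ≤ (Real.sqrt n + 1) * (2 * Real.sqrt n - 2) :=
      mul_le_mul_of_nonneg_left (by linarith) (by linarith)
    nlinarith
  calc (Real.sqrt n + 1) / (2 * n) * (Nat.card H : ℝ) ≤ 1 / (1 + r) * (Nat.card H : ℝ) :=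
        mul_le_mul_of_nonneg_right h6 hG.le
    _ = (Nat.card H : ℝ) / (1 + r) := by rw [one_div, div_eq_inv_mul]
    _ ≤ _ := h3.trans h1

omit [Finite H] in
theorem rnk_pos (w : V) : 0 < rnk V H w := by
  unfold rnk
  have : Nonempty (orbitRel.Quotient (stabilizer H w) (orbit H w)) := ⟨Quotient.mk'' ⟨w, mem_orbit_self w⟩⟩
  have : Finite (orbitRel.Quotient (stabilizer H w) (orbit H w)) := Quotient.finite _
  exact Nat.card_pos

omit [Finite H] in
theorem rnk_le (w : V) : rnk V H w ≤ Nat.card (orbit H w) :=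
  Nat.card_le_card_of_surjective (Quotient.mk'' : orbit H w → orbitRel.Quotient (stabilizer H w) (orbit H w))
    Quotient.mk''_surjective

theorem tgt_of_rnk {w : V} (hw : w ≠ 0) (h : (rnk V H w + 1) ^ 2 ≤ Nat.card V) : Tgt V H := by
  refine tgt_of_rnk' hw ?_
  have h1 := rnk_pos (H := H) w
  calc (rnk V H w + 3) ^ 2 ≤ (2 * (rnk V H w + 1)) ^ 2 := Nat.pow_le_pow_left (by omega) 2
    _ = 4 * (rnk V H w + 1) ^ 2 := by ring
    _ ≤ 4 * Nat.card V := Nat.mul_le_mul_left 4 h

theorem tgt_of_inv' {S : Set V} (hS : S.Nonempty) (h0 : (0 : V) ∉ S) (hinv : ∀ (h : H), ∀ w ∈ S, h • w ∈ S)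
    (h : (S.ncard + 3) ^ 2 ≤ 4 * Nat.card V) : Tgt V H := by
  obtain ⟨w, hw⟩ := hS
  have hw0 : w ≠ 0 := fun h => h0 (h ▸ hw)
  refine tgt_of_rnk' hw0 (le_trans (Nat.pow_le_pow_left ?_ 2) h)
  have h1 : orbit H w ⊆ S := by
    rintro _ ⟨k, rfl⟩
    exact hinv k w hw
  have h2 : Nat.card (orbit H w) ≤ S.ncard := Set.ncard_le_ncard h1 (Set.toFinite _)
  have h3 := rnk_le (H := H) w
  omega

theorem tgt_of_inv {S : Set V} (hS : S.Nonempty) (h0 : (0 : V) ∉ S) (hinv : ∀ (h : H), ∀ w ∈ S, h • w ∈ S)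
    (h : (S.ncard + 1) ^ 2 ≤ Nat.card V) : Tgt V H := by
  refine tgt_of_inv' hS h0 hinv ?_
  have h1 : 0 < S.ncard := (Set.ncard_pos (Set.toFinite _)).2 hS
  calc (S.ncard + 3) ^ 2 ≤ (2 * (S.ncard + 1)) ^ 2 := Nat.pow_le_pow_left (by omega) 2
    _ = 4 * (S.ncard + 1) ^ 2 := by ring
    _ ≤ 4 * Nat.card V := Nat.mul_le_mul_left 4 h

/-- **Criterion**: an element with a fixed vector and a small centraliser. -/
theorem tgt_of_cent {y : H} {w : V} (hw : w ≠ 0) (hy : y • w = w)
    (h : (Nat.card (Subgroup.centralizer ({y} : Set H)) + 1) ^ 2 ≤ Nat.card V) : Tgt V H := by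
  classical
  have : Fintype H := Fintype.ofFinite _
  rw [tgt_iff]
  set n : ℝ := (Nat.card V : ℝ) with hn
  have hV : 0 < Nat.card V := Nat.card_pos
  have hn0 : 0 < n := by rw [hn]; exact_mod_cast hV
  have hs0 : 0 < Real.sqrt n := Real.sqrt_pos.2 hn0
  have hss : Real.sqrt n * Real.sqrt n = n := Real.mul_self_sqrt hn0.le
  set C : ℝ := (Nat.card (Subgroup.centralizer ({y} : Set H)) : ℝ) with hC
  have hC0 : 0 < C := by
    rw [hC]; exact_mod_cast Nat.card_pos (α := Subgroup.centralizer ({y} : Set H))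
  have hCn : C + 1 ≤ Real.sqrt n := by
    rw [Real.le_sqrt (by linarith) hn0.le, hC, hn]
    exact_mod_cast h
  set A := Finset.univ.filter (fun h : H => IsConj y h) with hA
  have hfc : ∀ h ∈ A, (1 : ℝ) / 2 ≤ 1 - 1 / (fixc V h : ℝ) := by
    intro h hh
    obtain ⟨k, rfl⟩ := isConj_iff.1 (Finset.mem_filter.1 hh).2
    rw [fixc_conj]
    have h2 : 2 ≤ fixc V y := by
      unfold fixc
      have : Nontrivial {w : V // y • w = w} := ⟨⟨w, hy⟩, ⟨0, smul_zero y⟩, fun h => hw (congrArg Subtype.val h)⟩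
      have : Fintype {w : V // y • w = w} := Fintype.ofFinite _
      rw [Nat.card_eq_fintype_card]
      exact Fintype.one_lt_card
    have h3 : (2 : ℝ) ≤ fixc V y := by exact_mod_cast h2
    have := one_div_le_one_div_of_le (by norm_num : (0 : ℝ) < 2) h3
    linarith
  have hAcard : (A.card : ℝ) * C = Nat.card H := by
    have h1 : A.card = Nat.card (ConjClasses.mk y).carrier := by
      rw [Nat.card_eq_fintype_card, ← Set.toFinset_card]
      congr 1
      ext x
      rw [hA, Finset.mem_filter, Set.mem_toFinset, ConjClasses.mem_carrier_iff_mk_eq, ConjClasses.mk_eq_mk_iff_isConj]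
      exact ⟨fun h => h.2.symm, fun h => ⟨Finset.mem_univ _, h.symm⟩⟩
    have h2 := Cfsg.Agent.SmallSimple.SelfCentPrime.card_carrier_mul_card_centralizer y
    rw [h1, hC]
    exact_mod_cast h2
  have h3 : (A.card : ℝ) * (1 / 2) ≤ ∑ h : H, (1 - 1 / (fixc V h : ℝ)) := by
    rw [← nsmul_eq_mul]
    refine (Finset.card_nsmul_le_sum _ _ _ hfc).trans ?_
    refine Finset.sum_le_sum_of_subset_of_nonneg (Finset.filter_subset _ _) (fun h _ _ => ?_)
    have h3 : (1 : ℝ) ≤ fixc V h := by exact_mod_cast fixc_pos (V := V) h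
    have := one_div_le_one_div_of_le (by norm_num : (0 : ℝ) < 1) h3
    linarith
  refine le_trans ?_ h3
  rw [← hAcard]
  have hA0 : (0 : ℝ) ≤ A.card := Nat.cast_nonneg _
  have h4 : (Real.sqrt n + 1) / (2 * n) * C ≤ 1 / 2 := by
    rw [div_mul_eq_mul_div, div_le_div_iff₀ (by linarith) (by norm_num)]
    have : (Real.sqrt n + 1) * C ≤ (Real.sqrt n + 1) * (Real.sqrt n - 1) :=
      mul_le_mul_of_nonneg_left (by linarith) (by linarith)
    nlinarith
  calc (Real.sqrt n + 1) / (2 * n) * ((A.card : ℝ) * C) = (A.card : ℝ) * ((Real.sqrt n + 1) / (2 * n) * C) := by ring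
    _ ≤ _ := mul_le_mul_of_nonneg_left h4 hA0

theorem tgt_of_card (hV : 2 ≤ Nat.card V) (h : (Nat.card H + 2) ^ 2 ≤ 4 * Nat.card V) : Tgt V H := by
  classical
  have : Fintype H := Fintype.ofFinite _
  rw [tgt_iff]
  set n : ℝ := (Nat.card V : ℝ) with hn
  have hn2 : 2 ≤ n := by rw [hn]; exact_mod_cast hV
  have hn0 : 0 < n := by linarith
  have hs0 : 0 < Real.sqrt n := Real.sqrt_pos.2 hn0
  have hss : Real.sqrt n * Real.sqrt n = n := Real.mul_self_sqrt hn0.le
  have h1 : ∀ h : H, 0 ≤ 1 - 1 / (fixc V h : ℝ) := by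
    intro h
    have h3 : (1 : ℝ) ≤ fixc V h := by exact_mod_cast fixc_pos (V := V) h
    have := one_div_le_one_div_of_le (by norm_num : (0 : ℝ) < 1) h3
    linarith
  have h2 : 1 - 1 / n ≤ ∑ h : H, (1 - 1 / (fixc V h : ℝ)) := by
    have h3 : fixc V (1 : H) = Nat.card V := by
      unfold fixc
      exact Nat.card_congr (Equiv.subtypeUnivEquiv (fun x => one_smul _ x))
    have := Finset.single_le_sum (f := fun h : H => 1 - 1 / (fixc V h : ℝ)) (fun h _ => h1 h) (Finset.mem_univ (1 : H))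
    simp only [h3] at this
    exact this
  refine le_trans ?_ h2
  have h5 : (Nat.card H : ℝ) + 2 ≤ 2 * Real.sqrt n := by
    have h6 : ((Nat.card H : ℝ) + 2) ^ 2 ≤ (2 * Real.sqrt n) ^ 2 := by
      have h7 : ((Nat.card H : ℝ) + 2) ^ 2 ≤ 4 * n := by rw [hn]; exact_mod_cast h
      calc ((Nat.card H : ℝ) + 2) ^ 2 ≤ 4 * n := h7
        _ = (2 * Real.sqrt n) ^ 2 := by rw [mul_pow, pow_two (Real.sqrt n), hss]; ring
    exact le_of_sq_le_sq h6 (by positivity)
  have h6 : (Real.sqrt n + 1) / (2 * n) * (Nat.card H : ℝ) ≤ (Real.sqrt n + 1) / (2 * n) * (2 * Real.sqrt n - 2) :=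
    mul_le_mul_of_nonneg_left (by linarith) (by positivity)
  refine h6.trans (le_of_eq ?_)
  field_simp
  nlinarith

end

end Cfsg.Agent.H902.Af
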